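import Mathlib
import Groth.Prelude.Def_EtRam
import Groth.Agent.DvrDom.KrullAkizuki

/-! Valuation subrings dominating a discrete valuation ring in a tower of finite extensions. -/

set_option autoImplicit false
set_option linter.all false
universe u

noncomputable section

namespace Groth.Agent.EtRamTower

open IsLocalRing

/-- Extension of valuation subrings along a field map. -/
theorem exists_comap_eq {L M : Type u} [Field L] [Field M] (φ : L →+* M) (V : ValuationSubring L) :
    ∃ W : ValuationSubring M, W.comap φ = V := by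
  obtain ⟨W, hW, hloc⟩ := IsLocalRing.exists_factor_valuationRing (φ.comp V.subtype)
  refine ⟨W, ?_⟩
  ext x
  refine ⟨fun hx => ?_, fun hx => hW ⟨x, hx⟩⟩
  rcases V.mem_or_inv_mem x with h | h
  · exact h
  rcases eq_or_ne x 0 with rfl | hx0
  · exact zero_mem _
  have hu : IsUnit (⟨x⁻¹, h⟩ : V) := by
    refine hloc.map_nonunit _ ?_
    refine IsUnit.of_mul_eq_one (⟨φ x, hx⟩ : W) (Subtype.ext ?_)
    show φ x⁻¹ * φ x = 1
    rw [← map_mul, inv_mul_cancel₀ hx0, map_one]
  obtain ⟨w, hw⟩ := hu.exists_right_inv
  have h2 : x⁻¹ * (w : L) = 1 := congrArg Subtype.val hw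
  rw [show x = (w : L) by
    calc x = x * (x⁻¹ * (w : L)) := by rw [h2, mul_one]
      _ = (w : L) := by rw [← mul_assoc, mul_inv_cancel₀ hx0, one_mul]]
  exact w.2

/-- A dominating valuation subring pulls back to a dominating one. -/
theorem dominates_comap_iff {A : Type u} [CommRing A] [IsLocalRing A] {L M : Type u} [Field L] [Field M]
    (φ : L →+* M) (g : A →+* L) (W : ValuationSubring M) :
    EtRam.Dominates A g (W.comap φ) ↔ EtRam.Dominates A (φ.comp g) W := by
  refine and_congr Iff.rfl (forall_congr' fun a => forall_congr' fun ha => ?_)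
  rw [← ValuationSubring.mem_nonunits_iff, ← ValuationSubring.mem_nonunits_iff,
    ValuationSubring.mem_nonunits_iff_or, ValuationSubring.mem_nonunits_iff_or,
    ValuationSubring.mem_comap, map_inv₀, RingHom.comp_apply, map_eq_zero φ]

theorem isLocalHom_codRestrict {A : Type u} [CommRing A] [IsLocalRing A] {L : Type u} [Field L]
    (g : A →+* L) (V : ValuationSubring L) (h : EtRam.Dominates A g V) :
    IsLocalHom (RingHom.codRestrict g V h.1) := by
  constructor
  intro a ha
  by_contra hu
  have h1 := h.2 a hu
  exact ((ValuationSubring.valuation_lt_one_iff V (⟨g a, h.1 a⟩ : V)).2 h1) ha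

/-- A valuation subring of a finite separable extension dominating a DVR is a DVR. -/
theorem isDiscreteValuationRing_of_dominates (A K : Type u) [CommRing A] [IsDomain A]
    [IsDiscreteValuationRing A] [Field K] [Algebra A K] [IsFractionRing A K] (L : Type u) [Field L]
    [Algebra K L] [FiniteDimensional K L] [Algebra.IsSeparable K L] (V : ValuationSubring L)
    (h : EtRam.Dominates A ((algebraMap K L).comp (algebraMap A K)) V) : IsDiscreteValuationRing V := by
  letI : Algebra A L := ((algebraMap K L).comp (algebraMap A K)).toAlgebra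
  haveI : IsScalarTower A K L := IsScalarTower.of_algebraMap_eq fun _ => rfl
  let C := integralClosure A L
  haveI : IsDedekindDomain C := integralClosure.isDedekindDomain A K L
  haveI : Ring.KrullDimLE 1 C := Ring.krullDimLE_one_iff_of_noZeroDivisors.2 fun I hI hp => hp.isMaximal hI
  haveI : IsFractionRing C L := integralClosure.isFractionRing_of_finite_extension K L
  letI : Algebra A V := (RingHom.codRestrict (algebraMap A L) V h.1).toAlgebra
  haveI : IsScalarTower A V L := IsScalarTower.of_algebraMap_eq fun _ => rfl
  have hCV : ∀ c : C, (c : L) ∈ V := fun c => by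
    obtain ⟨y, hy⟩ := IsIntegrallyClosed.isIntegral_iff.1 (c.2.tower_top (A := V))
    exact hy ▸ y.2
  let D : Subalgebra C L := { V.toSubring with algebraMap_mem' := hCV }
  haveI := DvrDom.isNoetherianRing_subalgebra (C := C) (K := L) D
  let e : D ≃+* V :=
    { toFun := fun x => ⟨x.1, x.2⟩
      invFun := fun x => ⟨x.1, x.2⟩
      left_inv := fun _ => rfl
      right_inv := fun _ => rfl
      map_mul' := fun _ _ => rfl
      map_add' := fun _ _ => rfl }
  haveI : IsNoetherianRing V := isNoetherianRing_of_ringEquiv D e
  haveI : IsPrincipalIdealRing V := ⟨fun I => IsBezout.isPrincipal_of_FG I (IsNoetherian.noetherian I)⟩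
  refine { not_a_field' := fun hb => ?_ }
  obtain ⟨π, hπ⟩ := IsDiscreteValuationRing.exists_irreducible A
  have hm : (⟨algebraMap A L π, h.1 π⟩ : V) ∈ maximalIdeal V :=
    (V.valuation_lt_one_iff _).2 (h.2 π hπ.not_isUnit)
  rw [hb, Ideal.mem_bot] at hm
  exact hπ.ne_zero ((map_eq_zero_iff (f := algebraMap A L) ((algebraMap K L).injective.comp (IsFractionRing.injective A K))).1
    (congrArg Subtype.val hm))

/-- Ramification indices multiply. -/
theorem ramificationIdx'_mul {A B C : Type u} [CommRing A] [IsLocalRing A] [CommRing B] [IsDomain B]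
    [IsDiscreteValuationRing B] [CommRing C] [IsDomain C] [IsDiscreteValuationRing C]
    [Algebra A B] [Algebra B C] [Algebra A C] [IsScalarTower A B C]
    (hne : (maximalIdeal A).map (algebraMap A B) ≠ ⊥)
    (hne' : (maximalIdeal B).map (algebraMap B C) ≠ ⊥) :
    Ideal.ramificationIdx' (maximalIdeal A) (maximalIdeal C) =
      Ideal.ramificationIdx' (maximalIdeal A) (maximalIdeal B) *
        Ideal.ramificationIdx' (maximalIdeal B) (maximalIdeal C) := by
  have key : ∀ {R S : Type u} [CommRing R] [CommRing S] [IsDomain S] [IsDiscreteValuationRing S]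
      [Algebra R S] (P : Ideal R), P.map (algebraMap R S) ≠ ⊥ →
      P.map (algebraMap R S) = maximalIdeal S ^ Ideal.ramificationIdx' P (maximalIdeal S) ∧
      ∀ n, P.map (algebraMap R S) = maximalIdeal S ^ n → Ideal.ramificationIdx' P (maximalIdeal S) = n := by
    intro R S _ _ _ _ _ P hP
    have huniq : ∀ n, P.map (algebraMap R S) = maximalIdeal S ^ n →
        Ideal.ramificationIdx' P (maximalIdeal S) = n := fun n hn => by
      refine Ideal.ramificationIdx'_spec hn.le fun hle => ?_
      exact (Ideal.pow_succ_lt_pow (IsDiscreteValuationRing.not_a_field S) n).not_ge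
        (hn.ge.trans hle)
    obtain ⟨ϖ, hϖ⟩ := IsDiscreteValuationRing.exists_irreducible S
    obtain ⟨n, hn⟩ := IsDiscreteValuationRing.ideal_eq_span_pow_irreducible hP hϖ
    have hn' : P.map (algebraMap R S) = maximalIdeal S ^ n := by
      rw [hn, (IsDiscreteValuationRing.irreducible_iff_uniformizer ϖ).1 hϖ, Ideal.span_singleton_pow]
    exact ⟨huniq n hn' ▸ hn', huniq⟩
  have hAC : (maximalIdeal A).map (algebraMap A C) = maximalIdeal C ^
      (Ideal.ramificationIdx' (maximalIdeal A) (maximalIdeal B) *
        Ideal.ramificationIdx' (maximalIdeal B) (maximalIdeal C)) := by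
    rw [IsScalarTower.algebraMap_eq A B C, ← Ideal.map_map, (key (maximalIdeal A) hne).1, Ideal.map_pow,
      (key (maximalIdeal B) hne').1, ← pow_mul, mul_comm]
  exact (key (S := C) (maximalIdeal A) (by
    rw [hAC]; exact pow_ne_zero _ (IsDiscreteValuationRing.not_a_field C))).2 _ hAC

/-- Separability of residue extensions in a tower of local rings. -/
theorem isSeparable_residue_iff {A V W : Type u} [CommRing A] [IsLocalRing A] [CommRing V] [IsLocalRing V]
    [CommRing W] [IsLocalRing W] [Algebra A V] [Algebra V W] [Algebra A W] [IsScalarTower A V W]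
    [IsLocalHom (algebraMap A V)] [IsLocalHom (algebraMap V W)] [IsLocalHom (algebraMap A W)] :
    Algebra.IsSeparable (ResidueField A) (ResidueField W) ↔
      Algebra.IsSeparable (ResidueField A) (ResidueField V) ∧ Algebra.IsSeparable (ResidueField V) (ResidueField W) := by
  haveI : IsScalarTower (ResidueField A) (ResidueField V) (ResidueField W) :=
    IsScalarTower.of_algebraMap_eq fun x => by
      obtain ⟨a, rfl⟩ := residue_surjective x
      show residue W (algebraMap A W a) = residue W (algebraMap V W (algebraMap A V a))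
      rw [← IsScalarTower.algebraMap_apply]
  constructor
  · intro h
    exact ⟨Algebra.isSeparable_tower_bot_of_isSeparable (ResidueField A) (ResidueField V) (ResidueField W),
      Algebra.isSeparable_tower_top_of_isSeparable (ResidueField A) (ResidueField V) (ResidueField W)⟩
  · rintro ⟨h1, h2⟩
    exact Algebra.IsSeparable.trans (ResidueField A) (ResidueField V) (ResidueField W)

/-- If the top of a tower is weakly unramified, so is the bottom. -/
theorem weaklyUnramified_bot {A : Type u} [CommRing A] [IsDomain A] [IsDiscreteValuationRing A] {L M : Type u}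
    [Field L] [Field M] (φ : L →+* M) (g : A →+* L) (hg : Function.Injective g) (W : ValuationSubring M)
    (h : ∀ a, g a ∈ W.comap φ) (h' : ∀ a, (φ.comp g) a ∈ W)
    (hd : ∀ a ∈ maximalIdeal A, (W.comap φ).valuation (g a) < 1)
    (hW : (maximalIdeal A).map (RingHom.codRestrict (φ.comp g) W h') = maximalIdeal W) :
    (maximalIdeal A).map (RingHom.codRestrict g (W.comap φ) h) = maximalIdeal (W.comap φ) := by
  refine le_antisymm (Ideal.map_le_iff_le_comap.2 fun a ha =>
    ((W.comap φ).valuation_lt_one_iff _).2 (hd a ha)) fun x hx => ?_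
  obtain ⟨π, hπ⟩ := IsDiscreteValuationRing.exists_irreducible A
  have hm : maximalIdeal A = Ideal.span {π} := (IsDiscreteValuationRing.irreducible_iff_uniformizer π).1 hπ
  have hx' : EtRam.inclOfComap W φ x ∈ maximalIdeal W := map_nonunit (EtRam.inclOfComap W φ) x hx
  rw [← hW, hm, Ideal.map_span, Set.image_singleton, Ideal.mem_span_singleton'] at hx'
  obtain ⟨y, hy⟩ := hx'
  have hy' : (y : M) * φ (g π) = φ (x : L) := congrArg Subtype.val hy
  have hπ0 : g π ≠ 0 := (map_ne_zero_iff g hg).2 hπ.ne_zero
  have hmem : (x : L) / g π ∈ W.comap φ := by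
    rw [ValuationSubring.mem_comap, map_div₀, ← hy', mul_div_cancel_right₀ _ ((map_ne_zero φ).2 hπ0)]
    exact y.2
  rw [hm, Ideal.map_span, Set.image_singleton, Ideal.mem_span_singleton']
  exact ⟨⟨_, hmem⟩, Subtype.ext (div_mul_cancel₀ _ hπ0)⟩

end Groth.Agent.EtRamTower
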